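import Cfsg.Agent.H0.TC
set_option maxRecDepth 100000
namespace H0.TCS442
open H0
noncomputable def r0 : TC.WTr := (.node (.node (.node (.node (.node (.node (.leaf [1] 0 0 false) (.leaf [3, 3, 3, 3] 9 0 true)) (.node (.leaf [4, 5, 3, 0, 5] 16 5 true) (.leaf [4] 4 0 false))) (.node (.node (.leaf [1] 0 0 false) (.leaf [4] 4 0 false)) (.node (.leaf [0, 2, 4, 1, 2] 10 3 true) (.leaf [0, 4, 5, 2, 1] 15 4 true)))) (.node (.node (.node (.leaf [2, 4, 1, 2, 2] 10 4 true) (.leaf [0, 4, 3, 1, 3] 10 3 false)) (.node (.leaf [3] 2 0 false) (.leaf [3, 0, 5, 1, 4] 16 1 true))) (.node (.node (.leaf [2, 5, 4, 0, 5] 16 2 false) (.leaf [0, 5, 1, 2, 5] 16 5 false)) (.leaf [3] 2 0 false)))) (.node (.node (.node (.node (.leaf [0, 0] 8 0 false) (.leaf [5, 3, 3, 1, 2, 0] 11 5 false)) (.node (.leaf [0] 0 1 false) (.leaf [5] 5 0 false))) (.node (.node (.leaf [0] 0 1 false) (.leaf [5, 2, 1, 5, 0] 15 0 true)) (.node (.leaf [1, 5,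 0, 4, 5] 15 2 true) (.leaf [3, 3, 1, 2, 0, 3] 11 6 false)))) (.node (.node (.node (.leaf [1] 0 0 false) (.leaf [5, 4, 1, 5, 0] 15 3 false)) (.node (.leaf [2, 2, 2, 2] 9 0 false) (.leaf [1, 2, 5, 4, 0] 16 1 false))) (.node (.node (.leaf [5, 0, 4, 5, 2] 15 3 true) (.leaf [1, 5, 0, 3, 5] 15 5 false)) (.leaf [2] 2 1 false))))) (.node (.node (.node (.node (.node (.leaf [3, 5, 4, 1, 5] 15 2 false) (.leaf [1, 2, 0, 3, 5, 3] 11 1 false)) (.node (.leaf [0] 0 1 false) (.leaf [4] 4 0 false))) (.node (.node (.leaf [1] 0 0 false) (.leaf [5, 4, 5] 6 0 false)) (.node (.leaf [2, 5, 2, 1, 3, 0] 11 5 true) (.leaf [1, 4, 5, 3, 0] 16 4 true)))) (.node (.node (.node (.leaf [1] 0 0 false) (.leaf [0, 5, 1, 4, 5] 16 2 true)) (.node (.leaf [4, 1, 2, 2, 0] 10 5 true) (.leaf [2, 1, 3, 0, 2, 2] 11 0 true))) (.node (.node (.leaf [2, 2, 0, 2, 4] 10 1 true) (.leaf [3, 1, 3, 3, 0] 10 5 false)) (.leaf [3] 2 0 false)))) (.node (.node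 (.node (.node (.leaf [4, 3, 1, 3, 3] 10 4 false) (.leaf [1, 3, 1, 3, 1, 3, 1, 3, 1, 3, 1] 12 0 true)) (.node (.leaf [0] 0 1 false) (.leaf [2, 1, 5, 0, 4] 15 1 true))) (.node (.node (.leaf [1, 1] 8 0 true) (.leaf [1, 2, 2, 0, 2] 10 0 true)) (.node (.leaf [2, 0, 2, 4, 1] 10 2 true) (.leaf [4, 0, 5, 1, 2] 16 4 false)))) (.node (.node (.node (.leaf [1] 0 0 false) (.leaf [2] 2 1 false)) (.node (.leaf [5, 4, 0, 5, 1] 16 3 false) (.leaf [0, 3, 5, 4, 1] 15 1 false))) (.node (.node (.leaf [3, 3, 0, 4, 3] 10 1 false) (.leaf [5, 3, 0, 5, 1] 16 0 true)) (.leaf [3, 0, 4, 3, 1] 10 2 false))))))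
noncomputable def tS : Tr := (.leaf (nat_lit 0x1ffd7e3b0538289aa294ffe9d21b09b47a9058a7ff6886a03329f636e0fffc1e62eb34328c961bffdbfb520ca954bf30fffec6d4931458636832fff56a7f5312cf0ca423ff86472af2deaa604e9ffd9d864806f11ba3bfffeb19798c50c8c6461fff4ca99d34a5f1aa193ff95a4109d0ff864207ffc972965eea6069863ffe6252e9b041018c80fff5ee8f89506259ed53ff9b22b03a4308c2751ffd1f2ca0c25648eb4dffe5d8bd0e03c233830fff702be5474030c23f3ff92247a7854e0cc0c1ffc932bb56caf4300faffe17ca41ab5eed554dfff29017d1f17f18c6f7ff9aa3ae17cba9a5215ffcaa23b45637c6385ffff184f63a85d017c7afff5386c04a8315f03dfffb7b7ac240820bc063ffc1811247a745a997dffe2e0181ff406410abfff2ac908180c67503fbff9242fe6a8a0830181ffc178ea53c2c47708affe240178b015e2b856fff1582ac5502f1522a3ff8bf2340bc628a714dffc170e714a4ac458f2ffe234170a414628850fff176458ba82e14027fff89e13a0b84e09b135ffc7814b0d8000358bcffe1a8348000d030033fff0cc194320630b6003ff8620c21802f800113ffc000000620c01782e))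
noncomputable def tJ : Tr := (.leaf (nat_lit 0x1010212ca3180655888418123808801010003ca318025790800000701c2f08002401e0281a1398c02002d000601010713463000001802d080e5015a0000a60002e08000201c01002314000100231bca01808078080000040002f08003281e0000a00802d08086301a0281c1018002000e184601806270800000040002e08000181c01004013440000000802d281c100c012002e01000180c07002008080005c228161000012004b000001000002c00180005800028181000402002c00000100000300018000600001000002c001800058000000000002b08000001600014a00000))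
noncomputable def tQ : Tr := (.leaf (nat_lit 0x0))
noncomputable def tR : TC.WTr := r0
def hl : List ℕ := [4, 5]
def B : List (List ℕ) := [[0, 1], [1, 0], [2, 3], [3, 2], [4, 4], [5, 5], [4, 5, 4, 5], [4, 5, 4, 5], [0, 0, 0], [2, 2, 2, 2, 2], [3, 1, 3, 3, 0, 4], [3, 3, 1, 2, 0, 3, 5], [0, 2, 0, 2, 0, 2, 0, 2, 0, 2, 0, 2], [0, 2, 1, 3, 0, 2, 1, 3, 0, 2, 1, 3, 0, 2, 1, 3, 0, 2, 1, 3], [0, 3, 0, 3, 0, 3, 0, 3, 0, 3, 0, 3, 0, 3, 0, 3, 0, 3, 0, 3, 0, 3, 0, 3, 0, 3, 0, 3, 0, 3], [1, 5, 0, 3, 5, 4], [0, 5, 1, 2, 5, 4]]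
def subs : List (List ℕ) := [[4], [5]]
def ex : List (List ℕ) := []
def inv (x : ℕ) : ℕ := [1, 0, 3, 2, 4, 5].getD x 0
noncomputable def rS : ℕ → ℕ := rowOf tS (nat_lit 8) (nat_lit 255) (nat_lit 77) (nat_lit 151115727451828646838271)
noncomputable def rJ : ℕ → ℕ := rowOf tJ (nat_lit 8) (nat_lit 255) (nat_lit 40) (nat_lit 1099511627775)
noncomputable def C : TC.Cfg where
  S := look rS (nat_lit 11) (nat_lit 2047)
  J := look rJ (nat_lit 5) (nat_lit 31)
  Q := lookQ tQ (nat_lit 8) (nat_lit 1) (nat_lit 1)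
  R := tR.get
  hl := fun x => hl.contains x
  n := (nat_lit 45)
  M := (nat_lit 45)
  top := (nat_lit 1125)
  nl := (nat_lit 6)
  need := (nat_lit 6)
  nr := (nat_lit 10)
theorem k0 : TC.chkRange C 0 1 = true := by decide +kernel
theorem rows0 : ∀ c < (0 + 1) * 64, c < C.M → TC.chkRow C c = true :=
  TC.rows_step (TC.rows_zero C) k0
theorem main {G : Type*} [Group G] (g : ℕ → G) (hB : ∀ r ∈ B, ev g r = 1) (H : Subgroup G)
    (hH : ∀ w ∈ subs, ev g w ∈ H) :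
    H.relIndex (Subgroup.closure (g '' {x | x < 6})) ≠ 0 ∧
      H.relIndex (Subgroup.closure (g '' {x | x < 6})) ≤ 45 :=
  TC.index_le C B subs ex inv hl tR.hint rfl (by decide +kernel) (by decide +kernel)
    (TC.rows_done rows0 (by decide +kernel)) g hB H hH
end H0.TCS442
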